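import Mathlib
import Cfsg.Agent.Lib.Helper71.SUG2.Defs

/-!
# SUG (S2412), block [II], package [II-DIAG]: diagonal matrices of determinant one in `SU_n(2)`
-/

set_option autoImplicit false
open scoped Matrix

namespace Cfsg.Agent.Lib.Helper8.SUG2

open Cfsg.Agent.Lib.Helper71.SUG2

universe u

/-- a diagonal matrix with cube roots of unity on the diagonal preserves the hermitian form -/
theorem diag_herm {F : Type u} [Field F] {n : ℕ} (δ : Fin n → F) (hδ : ∀ i, δ i ^ 3 = 1)
    (x y : Fin n → F) :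
    H n F (Matrix.diagonal δ *ᵥ x) (Matrix.diagonal δ *ᵥ y) = H n F x y := by
  rw [H_apply, H_apply]
  apply Finset.sum_congr rfl
  intro i _
  rw [Matrix.mulVec_diagonal, Matrix.mulVec_diagonal]
  linear_combination (x i * y i ^ 2) * hδ i

/-- [II-DIAG] -/
theorem pkgDiag : Cfsg.Agent.Lib.Helper71.SUG2.PkgDiag.{u} := by
  intro F _ _ hF n δ hδ hprod
  have hdet : (Matrix.diagonal δ).det = 1 := by rw [Matrix.det_diagonal, hprod]
  refine ⟨⟨⟨Matrix.diagonal δ, hdet⟩, ?_⟩, rfl⟩
  intro x y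
  exact diag_herm δ (fun i => f4_cube hF (δ i) (hδ i)) x y

end Cfsg.Agent.Lib.Helper8.SUG2
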