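import Mathlib
import Cfsg.Agent.Lib.Helper71.SUG2.Defs

/-!
# SUG (S2412), block [II], package [II-SHIFT]: the cyclic shift lies in `SU_n(2)`
-/

set_option autoImplicit false
open scoped Matrix

namespace Cfsg.Agent.Lib.Helper8.SUG2

open Cfsg.Agent.Lib.Helper71.SUG2

universe u

/-- a permutation matrix acts by composition -/
theorem perm_mulVec {F : Type u} [Field F] {n : ℕ} (σ : Equiv.Perm (Fin n)) (v : Fin n → F) :
    σ.permMatrix F *ᵥ v = v ∘ σ :=
  PEquiv.toMatrix_toPEquiv_mulVec σ v

/-- in characteristic two a permutation matrix has determinant one -/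
theorem perm_det {F : Type u} [Field F] (h2 : (2 : F) = 0) {n : ℕ} (σ : Equiv.Perm (Fin n)) :
    (σ.permMatrix F).det = 1 := by
  rw [Matrix.det_permutation]
  rcases Int.units_eq_one_or (Equiv.Perm.sign σ) with h | h
  · rw [h]; simp
  · rw [h]
    simp only [Units.val_neg, Units.val_one, Int.cast_neg, Int.cast_one]
    linear_combination -h2

/-- a permutation matrix preserves the hermitian form -/
theorem perm_herm {F : Type u} [Field F] {n : ℕ} (σ : Equiv.Perm (Fin n)) (x y : Fin n → F) :
    H n F (σ.permMatrix F *ᵥ x) (σ.permMatrix F *ᵥ y) = H n F x y := by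
  rw [perm_mulVec, perm_mulVec]
  exact Equiv.sum_comp σ (fun i => x i * y i ^ 2)

/-- [II-SHIFT] -/
theorem pkgShift : Cfsg.Agent.Lib.Helper71.SUG2.PkgShift.{u} := by
  intro F _ _ hF n
  have h2 : (2 : F) = 0 := f4_two hF
  let σ : Equiv.Perm (Fin n) := (finRotate n).symm
  refine ⟨⟨⟨σ.permMatrix F, perm_det h2 σ⟩, ?_⟩, ?_⟩
  · intro x y
    exact perm_herm σ x y
  · intro v
    exact perm_mulVec σ v

end Cfsg.Agent.Lib.Helper8.SUG2
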